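import Groth.Agent.GenFree62.Filtration
import Mathlib.RingTheory.Localization.Free
import Mathlib.RingTheory.Localization.Away.Basic
import Mathlib.RingTheory.Polynomial.Basic
import Mathlib.RingTheory.FiniteType
import Mathlib.RingTheory.TensorProduct.Free
import Mathlib.RingTheory.Flat.Localization
import Mathlib.LinearAlgebra.Basis.VectorSpace
import Mathlib.RingTheory.Localization.FractionRing

/-! Generic freeness over a Noetherian domain. -/

set_option autoImplicit false
universe u

open TensorProduct

namespace Groth.Agent.GenFree62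

variable {A : Type u} [CommRing A]

/-- `M` becomes free over every `A`-algebra in which `f` is invertible. -/
def FreeAway (f : A) (M : Type u) [AddCommGroup M] [Module A M] : Prop :=
  ∀ (A' : Type u) [CommRing A'] [Algebra A A'], IsUnit (algebraMap A A' f) → Module.Free A' (A' ⊗[A] M)

section

variable {f g : A} {M N : Type u} [AddCommGroup M] [Module A M] [AddCommGroup N] [Module A N]

theorem FreeAway.of_equiv (h : FreeAway f M) (e : M ≃ₗ[A] N) : FreeAway f N :=
  fun A' _ _ hu => have := h A' hu; Module.Free.of_equiv (e.baseChange A A' M N)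

theorem FreeAway.mul_right (h : FreeAway f M) (g : A) : FreeAway (f * g) M :=
  fun A' _ _ hu => h A' (isUnit_of_mul_isUnit_left (by rwa [← map_mul]))

theorem FreeAway.of_dvd (h : FreeAway f M) (hfg : f ∣ g) : FreeAway g M := by
  obtain ⟨c, rfl⟩ := hfg
  exact h.mul_right c

theorem freeAway_of_free (h : Module.Free (Localization.Away f) (Localization.Away f ⊗[A] M)) :
    FreeAway f M := by
  intro A' _ _ hu
  let ψ : Localization.Away f →+* A' := IsLocalization.Away.lift f hu
  letI := ψ.toAlgebra
  have : IsScalarTower A (Localization.Away f) A' := IsScalarTower.of_algebraMap_eq fun a =>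
    (IsLocalization.Away.lift_eq f hu a).symm
  exact Module.Free.of_equiv
    (AlgebraTensorModule.cancelBaseChange A (Localization.Away f) A' A' M)

theorem FreeAway.localizedModule (h : FreeAway f M) :
    Module.Free (Localization.Away f) (LocalizedModule (.powers f) M) :=
  have := h (Localization.Away f) (IsLocalization.Away.algebraMap_isUnit f)
  Module.Free.of_equiv (LocalizedModule.equivTensorProduct (.powers f) M).symm

theorem freeAway_of_localizedModule (h : Module.Free (Localization.Away f) (LocalizedModule (.powers f) M)) :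
    FreeAway f M :=
  freeAway_of_free (Module.Free.of_equiv (LocalizedModule.equivTensorProduct (.powers f) M))

theorem exists_freeAway_of_finite [IsDomain A] [IsNoetherianRing A] [Module.Finite A M] :
    ∃ f : A, f ≠ 0 ∧ FreeAway f M := by
  let S := nonZeroDivisors A
  have : Module.FinitePresentation A M := Module.finitePresentation_of_finite A M
  let K := FractionRing A
  have : Module.Free K (LocalizedModule S M) :=
    inferInstance
  obtain ⟨r, hr, hfree, -⟩ := Module.FinitePresentation.exists_free_localizedModule_powers S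
    (LocalizedModule.mkLinearMap S M) K
  exact ⟨r, nonZeroDivisors.ne_zero hr, freeAway_of_localizedModule hfree⟩

end

section Step

variable [IsDomain A] {P : Type u} [CommRing P] [Algebra A P] [IsNoetherianRing P]
  {M : Type u} [AddCommGroup M] [Module A M] [Module P M] [IsScalarTower A P M]

/-- The filtration `N, N + yN, ...`. -/
def filt (y : M →ₗ[P] M) (N : Submodule P M) : ℕ → Submodule P M
  | 0 => ⊥
  | i + 1 => filt y N i ⊔ N.map (y ^ i)

theorem exists_freeAway_of_endo (y : M →ₗ[P] M) (N : Submodule P M) [Module.Finite P N]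
    (htop : ⨆ i, N.map (y ^ i) = ⊤)
    (ih : ∀ (Q : Type u) [AddCommGroup Q] [Module A Q] [Module P Q] [IsScalarTower A P Q] [Module.Finite P Q],
      ∃ f : A, f ≠ 0 ∧ FreeAway f Q) :
    ∃ f : A, f ≠ 0 ∧ FreeAway f M := by
  classical
  set W := filt y N with hW
  have hmono : Monotone W := monotone_nat_of_le_succ fun i => le_sup_left
  have hmapW : ∀ i, (W i).map y ≤ W (i + 1) := by
    intro i
    induction i with
    | zero => simp [hW, filt]
    | succ i ih' =>
      show (W i ⊔ N.map (y ^ i)).map y ≤ W (i + 1) ⊔ N.map (y ^ (i + 1))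
      rw [Submodule.map_sup, ← Submodule.map_comp, ← Module.End.mul_eq_comp, ← pow_succ']
      exact sup_le_sup ih' le_rfl
  let φ : ∀ i, N →ₗ[P] W (i + 1) ⧸ (W i).comap (W (i + 1)).subtype := fun i =>
    ((W i).comap (W (i + 1)).subtype).mkQ ∘ₗ
      ((y ^ i) ∘ₗ N.subtype).codRestrict (W (i + 1))
        (fun n => Submodule.mem_sup_right ⟨n, n.2, rfl⟩)
  have hφ : ∀ i, Function.Surjective (φ i) := by
    intro i q
    obtain ⟨⟨x, hx⟩, rfl⟩ := Submodule.mkQ_surjective _ q
    obtain ⟨a, ha, _, ⟨n, hn, rfl⟩, rfl⟩ := Submodule.mem_sup.mp hx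
    refine ⟨⟨n, hn⟩, (Submodule.Quotient.eq _).mpr ?_⟩
    show (y ^ i) n - (a + (y ^ i) n) ∈ W i
    rw [sub_add_cancel_right]
    exact (W i).neg_mem ha
  have hker : ∀ i n, n ∈ LinearMap.ker (φ i) ↔ (y ^ i) (n : M) ∈ W i := fun i n => by
    simp [φ, Submodule.Quotient.mk_eq_zero] <;> rfl
  have hKmono : Monotone fun i => LinearMap.ker (φ i) := monotone_nat_of_le_succ fun i n hn => by
    rw [hker] at hn ⊢
    rw [pow_succ', Module.End.mul_apply]
    exact hmapW i ⟨_, hn, rfl⟩
  obtain ⟨m, hm⟩ := monotone_stabilizes_iff_noetherian.mpr (inferInstance : IsNoetherian P N) ⟨_, hKmono⟩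
  let e : ∀ i, (N ⧸ LinearMap.ker (φ i)) ≃ₗ[P] W (i + 1) ⧸ (W i).comap (W (i + 1)).subtype :=
    fun i => (φ i).quotKerEquivOfSurjective (hφ i)
  choose f hf0 hf using fun i => ih (N ⧸ LinearMap.ker (φ i))
  have hF0 : ∏ i ∈ Finset.range (m + 1), f i ≠ 0 := Finset.prod_ne_zero_iff.mpr fun i _ => hf0 i
  refine ⟨_, hF0, freeAway_of_free (M := M) ?_⟩
  have hQ : ∀ i, FreeAway (∏ i ∈ Finset.range (m + 1), f i) (N ⧸ LinearMap.ker (φ i)) := by
    intro i
    rcases Nat.lt_or_ge i m with h | h
    · exact (hf i).of_dvd (Finset.dvd_prod_of_mem f (by simp; omega))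
    · exact ((hf m).of_dvd (Finset.dvd_prod_of_mem f (by simp))).of_equiv
        ((Submodule.quotEquivOfEq _ _ (hm i h)).restrictScalars A)
  have : ∀ i, Module.Free (Localization.Away (∏ i ∈ Finset.range (m + 1), f i))
      (Localization.Away (∏ i ∈ Finset.range (m + 1), f i) ⊗[A]
        ((W (i + 1)).restrictScalars A ⧸ ((W i).restrictScalars A).comap ((W (i + 1)).restrictScalars A).subtype)) :=
    fun i => (hQ i).of_equiv (((e i).restrictScalars A) ≪≫ₗ
      (Submodule.Quotient.restrictScalarsEquiv A ((W i).comap (W (i + 1)).subtype)).symm)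
      _ (IsLocalization.Away.algebraMap_isUnit _)
  have : Module.Flat A (Localization.Away (∏ i ∈ Finset.range (m + 1), f i)) :=
    IsLocalization.flat _ (Submonoid.powers (∏ i ∈ Finset.range (m + 1), f i))
  refine free_baseChange_of_filtration _ (fun i => (W i).restrictScalars A) (by simp [hW, filt])
    (fun i k h => hmono h) ?_
  rw [← Submodule.restrictScalars_iSup, Submodule.restrictScalars_eq_top_iff, eq_top_iff, ← htop]
  exact iSup_le fun i => le_trans le_sup_right (le_iSup W (i + 1))

end Step

variable [IsDomain A] [IsNoetherianRing A]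

theorem exists_freeAway_mvPolynomial (n : ℕ) : ∀ (M : Type u) [AddCommGroup M] [Module A M]
    [Module (MvPolynomial (Fin n) A) M] [IsScalarTower A (MvPolynomial (Fin n) A) M]
    [Module.Finite (MvPolynomial (Fin n) A) M], ∃ f : A, f ≠ 0 ∧ FreeAway f M := by
  induction n with
  | zero =>
    intro M _ _ _ _ _
    have : Module.Finite A (MvPolynomial (Fin 0) A) :=
      Module.Finite.equiv (MvPolynomial.isEmptyAlgEquiv A (Fin 0)).symm.toLinearEquiv
    have : Module.Finite A M := Module.Finite.trans (MvPolynomial (Fin 0) A) M
    exact exists_freeAway_of_finite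
  | succ n ih =>
    intro M _ _ _ _ hfin
    let ι : MvPolynomial (Fin n) A →ₐ[A] MvPolynomial (Fin (n + 1)) A := MvPolynomial.rename Fin.castSucc
    letI : Module (MvPolynomial (Fin n) A) M := Module.compHom M ι.toRingHom
    have : IsScalarTower A (MvPolynomial (Fin n) A) M := IsScalarTower.of_algebraMap_smul fun a m => by
      show ι (algebraMap A _ a) • m = a • m
      rw [ι.commutes, algebraMap_smul]
    obtain ⟨s, hs⟩ := hfin.fg_top
    let N : Submodule (MvPolynomial (Fin n) A) M := Submodule.span _ (s : Set M)
    have : Module.Finite (MvPolynomial (Fin n) A) N := Module.Finite.span_of_finite _ s.finite_toSet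
    let y : M →ₗ[MvPolynomial (Fin n) A] M :=
      { toFun := fun m => (MvPolynomial.X (Fin.last n) : MvPolynomial (Fin (n + 1)) A) • m
        map_add' := smul_add _
        map_smul' := fun p m => by
          show (MvPolynomial.X (Fin.last n) : MvPolynomial (Fin (n + 1)) A) • (ι p • m) =
            ι p • ((MvPolynomial.X (Fin.last n) : MvPolynomial (Fin (n + 1)) A) • m)
          exact smul_comm _ _ _ }
    refine exists_freeAway_of_endo y N ?_ ih
    set U := ⨆ i, N.map (y ^ i)
    have hy : ∀ x ∈ U, y x ∈ U := by
      intro x hx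
      refine (show U.map y ≤ U from ?_) ⟨x, hx, rfl⟩
      rw [Submodule.map_iSup]
      refine iSup_le fun i => le_trans ?_ (le_iSup _ (i + 1))
      rw [← Submodule.map_comp, ← Module.End.mul_eq_comp, ← pow_succ']
    have hp : ∀ (p : MvPolynomial (Fin (n + 1)) A) x, x ∈ U → p • x ∈ U := by
      intro p
      induction p using MvPolynomial.induction_on with
      | C a =>
        intro x hx
        rw [← MvPolynomial.algebraMap_eq, algebraMap_smul]
        exact U.smul_of_tower_mem a hx
      | add p q hp hq => intro x hx; rw [add_smul]; exact add_mem (hp x hx) (hq x hx)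
      | mul_X p j hp =>
        intro x hx
        rw [mul_smul]
        refine hp _ ?_
        induction j using Fin.lastCases with
        | last => exact hy x hx
        | cast j =>
          have h1 : (MvPolynomial.X j.castSucc : MvPolynomial (Fin (n + 1)) A) • x
              = (MvPolynomial.X j : MvPolynomial (Fin n) A) • x := by
            show _ = ι _ • x
            rw [MvPolynomial.rename_X]
          rw [h1]
          exact U.smul_mem _ hx
    rw [eq_top_iff]
    intro x _
    have hx : x ∈ Submodule.span (MvPolynomial (Fin (n + 1)) A) (s : Set M) := hs ▸ Submodule.mem_top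
    induction hx using Submodule.span_induction with
    | mem z hz => exact Submodule.mem_iSup_of_mem 0 ⟨z, Submodule.subset_span hz, by simp⟩
    | zero => exact zero_mem _
    | add a b _ _ ha hb => exact add_mem (ha trivial) (hb trivial)
    | smul p a _ ha => exact hp p a (ha trivial)

/-- Generic freeness over a Noetherian domain. -/
theorem exists_freeAway {B M : Type u} [CommRing B] [Algebra A B] [Algebra.FiniteType A B]
    [AddCommGroup M] [Module A M] [Module B M] [IsScalarTower A B M] [Module.Finite B M] :
    ∃ f : A, f ≠ 0 ∧ FreeAway f M := by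
  obtain ⟨n, π, hπ⟩ := Algebra.FiniteType.iff_quotient_mvPolynomial''.mp ‹Algebra.FiniteType A B›
  letI : Module (MvPolynomial (Fin n) A) M := Module.compHom M π.toRingHom
  have : IsScalarTower A (MvPolynomial (Fin n) A) M := IsScalarTower.of_algebraMap_smul fun a m => by
    show π (algebraMap A _ a) • m = a • m
    rw [π.commutes, algebraMap_smul]
  have : Module.Finite (MvPolynomial (Fin n) A) M := by
    obtain ⟨s, hs⟩ := ‹Module.Finite B M›.fg_top
    refine ⟨s, eq_top_iff.mpr fun x _ => ?_⟩
    have hx : x ∈ Submodule.span B (s : Set M) := hs ▸ Submodule.mem_top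
    induction hx using Submodule.span_induction with
    | mem z hz => exact Submodule.subset_span hz
    | zero => exact zero_mem _
    | add a b _ _ ha hb => exact add_mem (ha trivial) (hb trivial)
    | smul b a _ ha =>
      obtain ⟨p, rfl⟩ := hπ b
      exact Submodule.smul_mem _ p (ha trivial)
  exact exists_freeAway_mvPolynomial n M

end Groth.Agent.GenFree62
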