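import Mathlib.LinearAlgebra.FreeModule.Basic
import Mathlib.RingTheory.Flat.Basic
import Mathlib.LinearAlgebra.TensorProduct.RightExactness
import Mathlib.LinearAlgebra.DFinsupp
import Mathlib.Algebra.Module.Projective

/-! Modules with a filtration with free successive quotients are free. -/

set_option autoImplicit false
universe u

open TensorProduct

namespace Groth.Agent.GenFree62

variable {R : Type u} [CommRing R] {M : Type u} [AddCommGroup M] [Module R M]

theorem free_of_filtration (N : ℕ → Submodule R M) (h0 : N 0 = ⊥) (hmono : Monotone N) (htop : ⨆ i, N i = ⊤)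
    (Q : ℕ → Type u) [∀ i, AddCommGroup (Q i)] [∀ i, Module R (Q i)] [∀ i, Module.Free R (Q i)]
    (π : ∀ i, N (i + 1) →ₗ[R] Q i) (hsurj : ∀ i, Function.Surjective (π i))
    (hker : ∀ i (x : N (i + 1)), π i x = 0 ↔ (x : M) ∈ N i) : Module.Free R M := by
  classical
  choose σ hσ using fun i => Module.projective_lifting_property (π i) LinearMap.id (hsurj i)
  have hσ' : ∀ i q, π i (σ i q) = q := fun i q => LinearMap.congr_fun (hσ i) q
  let Φ : (Π₀ i, Q i) →ₗ[R] M := DFinsupp.lsum R (fun i => (N (i + 1)).subtype ∘ₗ σ i)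
  have hΦ : ∀ i q, Φ (DFinsupp.single i q) = (σ i q : M) := fun i q => DFinsupp.lsum_single ..
  have hs : Function.Surjective Φ := by
    rw [← LinearMap.range_eq_top, ← top_le_iff, ← htop, iSup_le_iff]
    intro k
    induction k with
    | zero => simp [h0]
    | succ k ih =>
      intro x hx
      have h1 : x - (σ k (π k ⟨x, hx⟩) : M) ∈ N k := (hker k (⟨x, hx⟩ - σ k (π k ⟨x, hx⟩))).mp
        (by rw [map_sub, hσ', sub_self])
      rw [← sub_add_cancel x (σ k (π k ⟨x, hx⟩) : M)]
      exact add_mem (ih h1) ⟨_, hΦ _ _⟩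
  have hi : Function.Injective Φ := by
    rw [← LinearMap.ker_eq_bot, Submodule.eq_bot_iff]
    intro d hd
    by_contra hne
    obtain ⟨k, hk, hmax⟩ : ∃ k ∈ d.support, ∀ i ∈ d.support, i ≤ k := by
      have : d.support.Nonempty := Finset.nonempty_iff_ne_empty.mpr (by simpa using hne)
      exact ⟨_, Finset.max'_mem _ this, fun i hi => Finset.le_max' _ i hi⟩
    have hd' : Φ d = ∑ i ∈ d.support, (σ i (d i) : M) := by
      conv_lhs => rw [← DFinsupp.sum_single (f := d)]
      rw [DFinsupp.sum, map_sum]
      exact Finset.sum_congr rfl fun i _ => hΦ i (d i)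
    have hmem : (σ k (d k) : M) ∈ N k := by
      have h2 : (σ k (d k) : M) = - ∑ i ∈ d.support.erase k, (σ i (d i) : M) := by
        rw [LinearMap.mem_ker, hd', ← Finset.add_sum_erase _ _ hk] at hd
        exact eq_neg_of_add_eq_zero_left hd
      rw [h2]
      refine neg_mem (sum_mem fun i hi => ?_)
      obtain ⟨hik, his⟩ := Finset.mem_erase.mp hi
      exact hmono (Nat.succ_le_of_lt (lt_of_le_of_ne (hmax i his) hik)) (σ i (d i)).2
    exact DFinsupp.mem_support_iff.mp hk ((hσ' k (d k)).symm.trans ((hker k _).mpr hmem))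
  exact Module.Free.of_equiv (LinearEquiv.ofBijective Φ ⟨hi, hs⟩)

variable (A' : Type u) [CommRing A'] [Algebra R A'] [Module.Flat R A']

theorem free_baseChange_of_filtration (W : ℕ → Submodule R M) (h0 : W 0 = ⊥) (hmono : Monotone W)
    (htop : ⨆ i, W i = ⊤)
    [∀ i, Module.Free A' (A' ⊗[R] (W (i + 1) ⧸ (W i).comap (W (i + 1)).subtype))] :
    Module.Free A' (A' ⊗[R] M) := by
  let j : ∀ i, A' ⊗[R] W i →ₗ[A'] A' ⊗[R] M := fun i => (W i).subtype.baseChange A'
  have hj : ∀ i, Function.Injective (j i) := fun i =>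
    Module.Flat.lTensor_preserves_injective_linearMap (W i).subtype (W i).injective_subtype
  have hincl : ∀ {i k} (h : i ≤ k), j i = j k ∘ₗ (Submodule.inclusion (hmono h)).baseChange A' := by
    intro i k h
    rw [← LinearMap.baseChange_comp]
    rfl
  let e := fun i => LinearEquiv.ofInjective (j i) (hj i)
  refine free_of_filtration (fun i => LinearMap.range (j i)) ?_ ?_ ?_
    (fun i => A' ⊗[R] (W (i + 1) ⧸ (W i).comap (W (i + 1)).subtype))
    (fun i => ((W i).comap (W (i + 1)).subtype).mkQ.baseChange A' ∘ₗ (e (i + 1)).symm.toLinearMap) ?_ ?_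
  · rw [Submodule.eq_bot_iff]
    rintro _ ⟨x, rfl⟩
    induction x using TensorProduct.induction_on with
    | zero => simp
    | tmul a m =>
      have : (m : M) = 0 := by simpa [h0] using m.2
      simp [j, this]
    | add x y hx hy => simp [hx, hy]
  · intro i k h
    simp only [hincl h]
    exact LinearMap.range_comp_le_range _ _
  · rw [eq_top_iff]
    rintro x -
    induction x using TensorProduct.induction_on with
    | zero => exact Submodule.zero_mem _
    | tmul a m =>
      obtain ⟨i, hi⟩ := (Submodule.mem_iSup_of_directed _ hmono.directed_le).mp (htop ▸ (Submodule.mem_top : m ∈ ⊤))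
      exact Submodule.mem_iSup_of_mem i ⟨a ⊗ₜ ⟨m, hi⟩, by simp [j]⟩
    | add x y hx hy => exact add_mem hx hy
  · intro i
    exact (LinearMap.lTensor_surjective A' (Submodule.mkQ_surjective _)).comp (e (i + 1)).symm.surjective
  · intro i x
    obtain ⟨y, rfl⟩ := (e (i + 1)).surjective x
    have hex : Function.Exact ((Submodule.inclusion (hmono i.le_succ)).baseChange A')
        (((W i).comap (W (i + 1)).subtype).mkQ.baseChange A') :=
      lTensor_exact A' (by
        rw [LinearMap.exact_iff, Submodule.ker_mkQ, Submodule.range_inclusion]) (Submodule.mkQ_surjective _)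
    simp only [LinearMap.comp_apply, LinearEquiv.coe_coe, LinearEquiv.symm_apply_apply]
    rw [hex y]
    constructor
    · rintro ⟨z, rfl⟩
      exact ⟨z, LinearMap.congr_fun (hincl i.le_succ) z⟩
    · rintro ⟨z, hz⟩
      refine ⟨z, hj (i + 1) ?_⟩
      exact (LinearMap.congr_fun (hincl i.le_succ) z).symm.trans hz

end Groth.Agent.GenFree62
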